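import Mathlib.RingTheory.Valuation.LocalSubring
import Mathlib.RingTheory.Ideal.MinimalPrime.Localization
import Mathlib.RingTheory.Valuation.ValuationRing
import Mathlib.RingTheory.IntegralClosure.IntegrallyClosed
import Mathlib.RingTheory.Localization.FractionRing
import Mathlib.RingTheory.Localization.Away.Basic

/-!
The integral closure as an intersection over valuation subrings.
-/

set_option autoImplicit false

universe u

open Polynomial

namespace Groth.Agent.QG99

variable {A B : Type u} [CommRing A] [CommRing B] [Algebra A B]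

theorem mem_of_isIntegral {x : B} (hx : IsIntegral A x) (K : Type u) [Field K] (R : ValuationSubring K)
    (φ : B →+* K) (h : ∀ a : A, φ (algebraMap A B a) ∈ R) : φ x ∈ R := by
  let ψ : A →+* R := (φ.comp (algebraMap A B)).codRestrict R.toSubring h
  have h1 : IsIntegral R (φ x) := by
    obtain ⟨P, hP, hP0⟩ := hx
    refine ⟨P.map ψ, hP.map ψ, ?_⟩
    rw [eval₂_map]
    have h2 : (algebraMap R K).comp ψ = φ.comp (algebraMap A B) := rfl
    rw [h2, ← hom_eval₂, hP0, map_zero]
  obtain ⟨r, hr⟩ := IsIntegrallyClosed.isIntegral_iff.mp h1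
  rw [← hr]
  exact r.2

theorem isIntegral_of_forall_mem {x : B}
    (h : ∀ (K : Type u) [Field K] (R : ValuationSubring K) (φ : B →+* K),
      (∀ a : A, φ (algebraMap A B a) ∈ R) → φ x ∈ R) : IsIntegral A x := by
  by_contra hni
  let T := Localization.Away x
  let X' : T := algebraMap B T x
  let y : T := IsLocalization.Away.invSelf x
  have hXy : X' * y = 1 := IsLocalization.Away.mul_invSelf x
  let S := Algebra.adjoin A {y}
  have hy : y ∈ S := Algebra.subset_adjoin rfl
  have hnu : ¬ IsUnit (⟨y, hy⟩ : S) := by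
    intro hu
    obtain ⟨z, hz⟩ := hu.exists_right_inv
    have hz' : y * (z : T) = 1 := congrArg Subtype.val hz
    have hzX : (z : T) = X' := by
      calc (z : T) = X' * y * z := by rw [hXy, one_mul]
        _ = X' := by rw [mul_assoc, hz', mul_one]
    have key : ∀ w ∈ S, ∃ (n : ℕ) (p : A[X]), p.natDegree ≤ n ∧ X' ^ n * w = aeval X' p := by
      intro w hw
      induction hw using Algebra.adjoin_induction with
      | mem w hw =>
        rw [Set.mem_singleton_iff] at hw; subst hw
        exact ⟨1, 1, by simp, by rw [pow_one, hXy, map_one]⟩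
      | algebraMap a => exact ⟨0, C a, by simp, by rw [pow_zero, one_mul, aeval_C]⟩
      | add v w _ _ ihv ihw =>
        obtain ⟨n, p, hp, ep⟩ := ihv
        obtain ⟨m, q, hq, eq⟩ := ihw
        refine ⟨n + m, p * X ^ m + q * X ^ n, ?_, ?_⟩
        · refine natDegree_add_le_of_degree_le (natDegree_mul_le.trans ?_) (natDegree_mul_le.trans ?_)
          · have := natDegree_X_pow_le (R := A) m; omega
          · have := natDegree_X_pow_le (R := A) n; omega
        · rw [map_add, map_mul, map_mul, ← ep, ← eq]
          simp only [map_pow, aeval_X]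
          ring
      | mul v w _ _ ihv ihw =>
        obtain ⟨n, p, hp, ep⟩ := ihv
        obtain ⟨m, q, hq, eq⟩ := ihw
        refine ⟨n + m, p * q, natDegree_mul_le.trans (by omega), ?_⟩
        rw [map_mul, ← ep, ← eq]; ring
    obtain ⟨n, p, hp, ep⟩ := key _ z.2
    rw [hzX, ← pow_succ] at ep
    have hmon : (X ^ (n + 1) - p : A[X]).Monic :=
      monic_X_pow_sub (lt_of_le_of_lt degree_le_natDegree (by exact_mod_cast Nat.lt_succ_of_le hp))
    have h0 : algebraMap B T (aeval x (X ^ (n + 1) - p)) = 0 := by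
      rw [← aeval_algebraMap_apply, map_sub, map_pow, aeval_X, ← ep, sub_self]
    obtain ⟨⟨_, k, rfl⟩, hk⟩ := (IsLocalization.map_eq_zero_iff (Submonoid.powers x) T _).mp h0
    refine hni ⟨X ^ k * (X ^ (n + 1) - p), (monic_X_pow k).mul hmon, ?_⟩
    rw [← aeval_def, map_mul, map_pow, aeval_X]
    exact hk
  obtain ⟨m, hm, hym⟩ := exists_max_ideal_of_mem_nonunits (mem_nonunits_iff.mpr hnu)
  haveI := hm.isPrime
  obtain ⟨p, hp, hpm⟩ := Ideal.exists_minimalPrimes_le (I := (⊥ : Ideal S)) (J := m) bot_le
  obtain ⟨q, hq, hqp⟩ := Ideal.exists_comap_eq_of_mem_minimalPrimes_of_injective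
    (f := S.val.toRingHom) Subtype.val_injective p hp
  obtain ⟨K, _, π, hπ⟩ : ∃ (K : Type u) (_ : Field K) (π : T →+* K), RingHom.ker π = q :=
    ⟨FractionRing (T ⧸ q), inferInstance, (algebraMap (T ⧸ q) _).comp (Ideal.Quotient.mk q), by
      ext t; simp [RingHom.mem_ker, Ideal.Quotient.eq_zero_iff_mem]⟩
  let f : S →+* K := π.comp S.val.toRingHom
  have hker : RingHom.ker f = p := by
    rw [← hqp, ← hπ]
    ext s
    exact Iff.rfl
  have hle : ∀ s : m.primeCompl, IsUnit (f s) := fun s => by
    refine isUnit_iff_ne_zero.mpr fun h0 => s.2 (hpm ?_)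
    rw [← hker]; exact h0
  let g : Localization.AtPrime m →+* K := IsLocalization.lift hle
  obtain ⟨R, hR, hloc⟩ := IsLocalRing.exists_factor_valuationRing (R := Localization.AtPrime m) g
  have hfR : ∀ s : S, f s ∈ R := fun s => by
    have := hR (algebraMap S _ s)
    rwa [IsLocalization.lift_eq] at this
  have hφA : ∀ a : A, (π.comp (algebraMap B T)) (algebraMap A B a) ∈ R := fun a => by
    have := hfR (algebraMap A S a)
    exact this
  have hx := h K R _ hφA
  have hu : IsUnit (algebraMap S (Localization.AtPrime m) ⟨y, hy⟩) := by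
    refine hloc.map_nonunit _ ?_
    refine IsUnit.of_mul_eq_one ⟨(π.comp (algebraMap B T)) x, hx⟩ (Subtype.ext ?_)
    show g (algebraMap S _ ⟨y, hy⟩) * π X' = 1
    rw [IsLocalization.lift_eq]
    show π y * π X' = 1
    rw [← map_mul, mul_comm, hXy, map_one]
  exact (IsLocalization.AtPrime.isUnit_to_map_iff (Localization.AtPrime m) m _).mp hu hym

end Groth.Agent.QG99
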