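import Groth.Agent.QG99.ValFlatFinite
import Mathlib.RingTheory.Flat.TorsionFree
import Mathlib.LinearAlgebra.TensorProduct.Quotient

/-!
Proper schemes over semi-valuation rings that are finite over the interior.
-/

set_option autoImplicit false

universe u

open CategoryTheory CategoryTheory.Limits AlgebraicGeometry TensorProduct

namespace Groth.Agent.QG99

variable {A : Type u} [CommRing A] (𝔮 : Ideal A) (f : A)

theorem le_span_pow_mul (h1 : 𝔮 ≤ Ideal.span {f} * 𝔮) (n : ℕ) : 𝔮 ≤ Ideal.span {f ^ n} * 𝔮 := by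
  induction n with
  | zero => simp
  | succ n ih =>
    refine ih.trans ((Ideal.mul_mono_right h1).trans (le_of_eq ?_))
    rw [← mul_assoc, Ideal.span_singleton_mul_span_singleton, pow_succ]

theorem flat_quotient_tensor [𝔮.IsPrime] [ValuationRing (A ⧸ 𝔮)] (h1 : 𝔮 ≤ Ideal.span {f} * 𝔮)
    (h2 : ∀ r ∉ 𝔮, ∃ (s : A) (n : ℕ), r * s - f ^ n ∈ 𝔮) (B : Type u) [CommRing B] [Algebra A B]
    (hnzd : algebraMap A B f ∈ nonZeroDivisors B) : Module.Flat (A ⧸ 𝔮) ((A ⧸ 𝔮) ⊗[A] B) := by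
  haveI : IsBezout (A ⧸ 𝔮) := inferInstance
  rw [Module.Flat.flat_iff_torsion_eq_bot_of_isBezout, Submodule.eq_bot_iff]
  rintro x ⟨⟨r, hr⟩, hrx⟩
  obtain ⟨r, rfl⟩ := Ideal.Quotient.mk_surjective r
  obtain ⟨b, rfl⟩ : ∃ b : B, (1 : A ⧸ 𝔮) ⊗ₜ[A] b = x := by
    clear hrx
    induction x with
    | zero => exact ⟨0, TensorProduct.tmul_zero _ _⟩
    | tmul k c =>
      obtain ⟨k, rfl⟩ := Ideal.Quotient.mk_surjective k
      exact ⟨k • c, by rw [← TensorProduct.smul_tmul, Algebra.smul_def, mul_one]; rfl⟩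
    | add v w hv hw =>
      obtain ⟨a, rfl⟩ := hv
      obtain ⟨c, rfl⟩ := hw
      exact ⟨a + c, TensorProduct.tmul_add _ _ _⟩
  have hmem : ∀ a : A, (Ideal.Quotient.mk 𝔮 a) ⊗ₜ[A] b = 0 ↔ algebraMap A B a * b ∈ 𝔮.map (algebraMap A B) := by
    intro a
    rw [← (quotTensorEquivQuotSMul B 𝔮).map_eq_zero_iff, quotTensorEquivQuotSMul_mk_tmul,
      Submodule.Quotient.mk_eq_zero, Ideal.smul_top_eq_map, Submodule.restrictScalars_mem, Algebra.smul_def]
  have hr' : r ∉ 𝔮 := fun h => nonZeroDivisors.ne_zero hr (Ideal.Quotient.eq_zero_iff_mem.mpr h)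
  have hrb : algebraMap A B r * b ∈ 𝔮.map (algebraMap A B) := by
    rw [← hmem]
    rw [Submonoid.mk_smul, TensorProduct.smul_tmul', smul_eq_mul, mul_one] at hrx
    exact hrx
  obtain ⟨s, n, hsn⟩ := h2 r hr'
  have hfb : algebraMap A B (f ^ n) * b ∈ 𝔮.map (algebraMap A B) := by
    have e : algebraMap A B (f ^ n) * b =
        algebraMap A B s * (algebraMap A B r * b) - algebraMap A B (r * s - f ^ n) * b := by
      rw [map_sub, map_mul]; ring
    rw [e]
    exact sub_mem (Ideal.mul_mem_left _ _ hrb) (Ideal.mul_mem_right _ _ (Ideal.mem_map_of_mem _ hsn))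
  have h3 : 𝔮.map (algebraMap A B) ≤ Ideal.span {algebraMap A B (f ^ n)} * 𝔮.map (algebraMap A B) := by
    refine (Ideal.map_mono (le_span_pow_mul 𝔮 f h1 n)).trans (le_of_eq ?_)
    rw [Ideal.map_mul, Ideal.map_span, Set.image_singleton]
  obtain ⟨y, hy, e⟩ := Ideal.mem_span_singleton_mul.mp (h3 hfb)
  have hb : b = y := ((mul_cancel_left_mem_nonZeroDivisors (by rw [map_pow]; exact pow_mem hnzd n)).mp e).symm
  have := (hmem 1).mpr (by rw [map_one, one_mul, hb]; exact hy)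
  rwa [map_one] at this

theorem isFinite_semiVal [𝔮.IsPrime] [ValuationRing (A ⧸ 𝔮)] (h0 : f ∉ 𝔮) (h1 : 𝔮 ≤ Ideal.span {f} * 𝔮)
    (h2 : ∀ r ∉ 𝔮, ∃ (s : A) (n : ℕ), r * s - f ^ n ∈ 𝔮) {Q : Scheme.{u}}
    (q : Q ⟶ Spec (CommRingCat.of A)) [IsProper q]
    (hnzd : ∀ (T : CommRingCat.{u}) (h : Spec T ⟶ Q) [IsOpenImmersion h] (φ : CommRingCat.of A ⟶ T),
      Spec.map φ = h ≫ q → φ.hom f ∈ nonZeroDivisors T)
    (hfin : IsFinite (q ∣_ (PrimeSpectrum.basicOpen f : (Spec (CommRingCat.of A)).Opens))) : IsFinite q := by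
  let ι : Spec (CommRingCat.of (A ⧸ 𝔮)) ⟶ Spec (CommRingCat.of A) :=
    Spec.map (CommRingCat.ofHom (algebraMap A (A ⧸ 𝔮)))
  let U : (Spec (CommRingCat.of A)).Opens := PrimeSpectrum.basicOpen f
  haveI hflat : Flat (pullback.snd q ι) := by
    haveI : IsZariskiLocalAtSource @Flat.{u} :=
      @HasRingHomProperty.instIsZariskiLocalAtSource _ _ inferInstance
    suffices ∀ (T : CommRingCat.{u}) (h : Spec T ⟶ Q) [IsOpenImmersion h], Flat (pullback.snd (h ≫ q) ι) by
      refine IsZariskiLocalAtSource.of_openCover (Scheme.Pullback.openCoverOfLeft Q.affineCover q ι) fun i => ?_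
      have e : (Scheme.Pullback.openCoverOfLeft Q.affineCover q ι).f i ≫ pullback.snd q ι =
          pullback.snd (Q.affineCover.f i ≫ q) ι := (pullback.lift_snd _ _ _).trans (Category.comp_id _)
      rw [e]
      exact @this _ _ (Q.affineCover.map_prop i)
    intro T h _
    obtain ⟨φ, hφ⟩ : ∃ φ, Spec.map φ = h ≫ q := ⟨_, Spec.map_preimage _⟩
    rw [← hφ]
    algebraize [φ.hom]
    haveI : Module.Flat (A ⧸ 𝔮) ((A ⧸ 𝔮) ⊗[A] T) := flat_quotient_tensor 𝔮 f h1 h2 T (hnzd T h φ hφ)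
    have hf : Flat (Spec.map (CommRingCat.ofHom
        (Algebra.TensorProduct.includeLeftRingHom : A ⧸ 𝔮 →+* (A ⧸ 𝔮) ⊗[A] T))) := by
      rw [HasRingHomProperty.Spec_iff (P := @Flat.{u})]
      show (algebraMap (A ⧸ 𝔮) ((A ⧸ 𝔮) ⊗[A] T)).Flat
      exact RingHom.flat_algebraMap_iff.mpr inferInstance
    rw [← pullbackSpecIso_inv_fst] at hf
    have hf2 : Flat (pullback.fst ι (Spec.map (CommRingCat.ofHom (algebraMap A T)))) := by
      haveI := hf
      have : Flat ((pullbackSpecIso A (A ⧸ 𝔮) T).hom ≫ (pullbackSpecIso A (A ⧸ 𝔮) T).inv ≫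
          pullback.fst ι (Spec.map (CommRingCat.ofHom (algebraMap A T)))) := inferInstance
      rwa [Iso.hom_inv_id_assoc] at this
    haveI := hf2
    change Flat (pullback.snd (Spec.map (CommRingCat.ofHom (algebraMap A T))) ι)
    rw [← pullbackSymmetry_hom_comp_fst]
    infer_instance
  let j := Spec.map (CommRingCat.ofHom (algebraMap (A ⧸ 𝔮) (FractionRing (A ⧸ 𝔮))))
  haveI hgen : IsFinite (pullback.snd (pullback.snd q ι) j) := by
    have hr : Set.range (j ≫ ι) ⊆ Set.range U.ι := by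
      rw [Scheme.Opens.range_ι]
      rintro _ ⟨x, rfl⟩
      show f ∉ ((j ≫ ι) x).asIdeal
      intro hx
      change algebraMap (A ⧸ 𝔮) (FractionRing (A ⧸ 𝔮)) (Ideal.Quotient.mk 𝔮 f) ∈ x.asIdeal at hx
      refine x.2.ne_top (Ideal.eq_top_of_isUnit_mem _ hx (IsUnit.mk0 _ ?_))
      rw [ne_eq, map_eq_zero_iff _ (IsFractionRing.injective (A ⧸ 𝔮) (FractionRing (A ⧸ 𝔮))),
        Ideal.Quotient.eq_zero_iff_mem]
      exact h0
    let l := IsOpenImmersion.lift U.ι (j ≫ ι) hr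
    have hA : IsPullback (pullback.snd (pullback.snd q ι) j)
        (pullback.fst (pullback.snd q ι) j ≫ pullback.fst q ι) (l ≫ U.ι) q := by
      rw [IsOpenImmersion.lift_fac]
      exact ((IsPullback.of_hasPullback (pullback.snd q ι) j).paste_horiz (IsPullback.of_hasPullback q ι)).flip
    exact MorphismProperty.of_isPullback (P := @IsFinite.{u})
      (IsPullback.of_bot' hA (isPullback_morphismRestrict q U)).flip hfin
  haveI := isFinite_of_flat_isProper (pullback.snd q ι)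
  haveI : LocallyQuasiFinite q := by
    rw [locallyQuasiFinite_iff_finite_preimage_singleton]
    intro p
    by_cases hp : p ∈ U
    · haveI := hfin
      refine Set.Finite.subset (((q ∣_ U).finite_preimage_singleton ⟨p, hp⟩).image (q ⁻¹ᵁ U).ι) ?_
      intro x hx
      have hxU : x ∈ q ⁻¹ᵁ U := by show q x ∈ U; rw [hx]; exact hp
      refine ⟨⟨x, hxU⟩, ?_, rfl⟩
      exact Subtype.ext ((congrArg (fun φ : (q ⁻¹ᵁ U).toScheme ⟶ _ => φ ⟨x, hxU⟩) (morphismRestrict_ι q U)).trans hx)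
    · have hfp : f ∈ p.asIdeal := not_not.mp hp
      have hle : 𝔮 ≤ p.asIdeal :=
        h1.trans (Ideal.mul_le_left.trans ((Ideal.span_singleton_le_iff_mem _).mpr hfp))
      obtain ⟨p', hp'⟩ : p ∈ Set.range ι := by
        show p ∈ Set.range (PrimeSpectrum.comap (Ideal.Quotient.mk 𝔮))
        rw [range_comap_of_surjective _ _ Ideal.Quotient.mk_surjective, Ideal.mk_ker]
        exact hle
      refine Set.Finite.subset (((pullback.snd q ι).finite_preimage_singleton p').image (pullback.fst q ι)) ?_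
      intro x hx
      obtain ⟨z, hz1, hz2⟩ := Scheme.Pullback.exists_preimage_pullback (f := q) (g := ι) x p'
        ((hx : q x = p).trans hp'.symm)
      exact ⟨z, hz2, hz1⟩
  exact IsFinite.of_isProper_of_locallyQuasiFinite q

end Groth.Agent.QG99
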