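import Mathlib.AlgebraicGeometry.ZariskisMainTheorem
import Mathlib.AlgebraicGeometry.Morphisms.Flat
import Mathlib.AlgebraicGeometry.Pullbacks
import Mathlib.RingTheory.Valuation.ValuationRing
import Mathlib.RingTheory.Flat.Basic

/-!
Flat, proper, generically finite over a valuation ring implies finite.
-/

set_option autoImplicit false

universe u

open CategoryTheory CategoryTheory.Limits AlgebraicGeometry TensorProduct

namespace Groth.Agent.QG99

theorem exists_common_scale {R K ι : Type*} [CommRing R] [IsDomain R] [ValuationRing R] [Field K]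
    [Algebra R K] [IsFractionRing R K] [DecidableEq ι] (t : Finset ι) (k : ι → K) (hk : ∃ i ∈ t, k i ≠ 0) :
    ∃ j ∈ t, k j ≠ 0 ∧ ∀ i ∈ t, IsLocalization.IsInteger R (k i / k j) := by
  induction t using Finset.induction_on with
  | empty => simp at hk
  | insert a t ha ih =>
    by_cases h : ∃ i ∈ t, k i ≠ 0
    · obtain ⟨j, hj, hj0, hint⟩ := ih h
      rcases ValuationRing.isInteger_or_isInteger (R := R) (k a / k j) with h1 | h1
      · exact ⟨j, Finset.mem_insert_of_mem hj, hj0, fun i hi =>
          (Finset.mem_insert.mp hi).elim (fun e => e ▸ h1) (hint i)⟩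
      · by_cases ha0 : k a = 0
        · exact ⟨j, Finset.mem_insert_of_mem hj, hj0, fun i hi =>
            (Finset.mem_insert.mp hi).elim (fun e => e ▸ by rw [ha0, zero_div]; exact ⟨0, map_zero _⟩) (hint i)⟩
        · rw [inv_div] at h1
          refine ⟨a, Finset.mem_insert_self a t, ha0, fun i hi => ?_⟩
          rcases Finset.mem_insert.mp hi with rfl | hi
          · rw [div_self ha0]; exact IsLocalization.isInteger_one
          · rw [← div_mul_div_cancel₀ hj0]
            exact IsLocalization.isInteger_mul (hint i hi) h1
    · push Not at h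
      obtain ⟨i, hi, hi0⟩ := hk
      have hia : i = a := (Finset.mem_insert.mp hi).resolve_right fun hit => hi0 (h i hit)
      subst hia
      refine ⟨i, hi, hi0, fun j hj => ?_⟩
      rcases Finset.mem_insert.mp hj with rfl | hj
      · rw [div_self hi0]; exact IsLocalization.isInteger_one
      · rw [h j hj, zero_div]; exact ⟨0, map_zero _⟩

theorem quasiFinite_of_flat_of_finite {R : Type u} [CommRing R] [IsDomain R] [ValuationRing R] {B : Type u}
    [CommRing B] [Algebra R B] [Module.Flat R B] [Module.Finite (FractionRing R) (FractionRing R ⊗[R] B)] :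
    Algebra.QuasiFinite R B := by
  classical
  refine ⟨fun P hP => ?_⟩
  let K := FractionRing R
  let κ := P.ResidueField
  let g : B → κ ⊗[R] B := fun b => 1 ⊗ₜ b
  have hinj : Function.Injective (fun b : B => (1 : K) ⊗ₜ[R] b) :=
    Algebra.TensorProduct.includeRight_injective (IsFractionRing.injective R K)
  have key : ∀ t : Finset B, LinearIndepOn κ g (t : Set B) → t.card ≤ Module.finrank K (K ⊗[R] B) := by
    intro t ht
    by_contra hlt
    have hdep : ¬ LinearIndependent K (fun i : t => (1 : K) ⊗ₜ[R] (i : B)) := fun hi => hlt (by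
      simpa using hi.fintype_card_le_finrank)
    obtain ⟨k, hk, i, hi⟩ := Fintype.not_linearIndependent_iff.mp hdep
    obtain ⟨j, -, hj0, hint⟩ := exists_common_scale (R := R) Finset.univ k ⟨i, Finset.mem_univ _, hi⟩
    choose r hr using fun i => hint i (Finset.mem_univ i)
    have hrj : r j = 1 := IsFractionRing.injective R K (by rw [hr, div_self hj0, map_one])
    have h0 : ∑ i : t, r i • (i : B) = 0 := hinj (by
      simp only [TensorProduct.tmul_sum, TensorProduct.tmul_zero]
      calc ∑ i : t, (1 : K) ⊗ₜ[R] (r i • (i : B)) = ∑ i : t, (k j)⁻¹ • k i • (1 : K) ⊗ₜ[R] (i : B) := by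
            refine Finset.sum_congr rfl fun i _ => ?_
            rw [TensorProduct.tmul_smul, ← algebraMap_smul K (r i), hr, smul_smul, div_eq_inv_mul]
        _ = 0 := by rw [← Finset.smul_sum, hk, smul_zero])
    have h1 : ∑ i : t, algebraMap R κ (r i) • g i = 0 := by
      calc ∑ i : t, algebraMap R κ (r i) • g i = (1 : κ) ⊗ₜ[R] (∑ i : t, r i • (i : B)) := by
            rw [TensorProduct.tmul_sum]
            refine Finset.sum_congr rfl fun i _ => ?_
            rw [algebraMap_smul, TensorProduct.tmul_smul]
        _ = 0 := by rw [h0, TensorProduct.tmul_zero]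
    have := Fintype.linearIndependent_iff.mp ht (fun i => algebraMap R κ (r i)) h1 j
    rw [hrj, map_one] at this
    exact one_ne_zero this
  obtain ⟨s, hsub, hspan, hs⟩ := exists_linearIndependent κ (Set.range g)
  haveI hfin : Finite s := by
    rw [Set.finite_coe_iff]
    by_contra hinf
    obtain ⟨t, hts, htc⟩ := Set.Infinite.exists_subset_card_eq hinf (Module.finrank K (K ⊗[R] B) + 1)
    choose b hb using fun x : t => hsub (hts x.2)
    have hbinj : Function.Injective b := fun x y h => Subtype.ext (by rw [← hb x, ← hb y, h])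
    refine absurd (key (Finset.univ.image b) ?_) ?_
    · rw [LinearIndepOn, Finset.coe_image, Finset.coe_univ, Set.image_univ]
      refine (linearIndependent_equiv (Equiv.ofInjective b hbinj)).mp ?_
      have he : ((fun x : Set.range b => g x) ∘ Equiv.ofInjective b hbinj) = fun x : t => (x : κ ⊗[R] B) :=
        funext hb
      rw [he]
      exact hs.comp (fun x : t => (⟨x, hts x.2⟩ : s)) fun x y h => Subtype.ext (congrArg (fun z : s => (z : κ ⊗[R] B)) h)
    · rw [Finset.card_image_of_injective _ hbinj, Finset.card_univ, Fintype.card_coe, htc]; omega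
  refine ⟨Submodule.fg_def.mpr ⟨s, Set.toFinite s, ?_⟩⟩
  rw [hspan, eq_top_iff]
  rintro x -
  change κ ⊗[R] B at x
  induction x with
  | zero => exact zero_mem _
  | tmul k b =>
    have : k ⊗ₜ[R] b = k • g b := by rw [TensorProduct.smul_tmul', smul_eq_mul, mul_one]
    rw [this]
    exact Submodule.smul_mem _ _ (Submodule.subset_span ⟨b, rfl⟩)
  | add x y hx hy => exact add_mem hx hy

theorem isFinite_of_flat_isProper {R : Type u} [CommRing R] [IsDomain R] [ValuationRing R] {Y : Scheme.{u}}
    (f : Y ⟶ Spec (CommRingCat.of R)) [Flat f] [IsProper f]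
    [IsFinite (pullback.snd f (Spec.map (CommRingCat.ofHom (algebraMap R (FractionRing R)))))] :
    IsFinite f := by
  let K := FractionRing R
  let j := Spec.map (CommRingCat.ofHom (algebraMap R K))
  haveI hdisc : DiscreteTopology ↥(pullback f j) := by
    have := (pullback.snd f j).isDiscrete_preimage_singleton (IsLocalRing.closedPoint K)
    refine isDiscrete_univ_iff.mp ?_
    convert this using 1
    refine (Set.eq_univ_of_forall fun x => ?_).symm
    exact Subsingleton.elim (α := PrimeSpectrum K) _ _
  have hloc : LocallyQuasiFinite f := by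
    haveI : IsZariskiLocalAtSource @LocallyQuasiFinite.{u} :=
      @HasRingHomProperty.instIsZariskiLocalAtSource _ _ inferInstance
    suffices ∀ (T : CommRingCat.{u}) (h : Spec T ⟶ Y) [IsOpenImmersion h], LocallyQuasiFinite (h ≫ f) from
      IsZariskiLocalAtSource.of_openCover Y.affineCover fun i => @this _ _ (Y.affineCover.map_prop i)
    intro T h _
    obtain ⟨φ, hφ⟩ : ∃ φ, Spec.map φ = h ≫ f := ⟨_, Spec.map_preimage _⟩
    rw [← hφ, HasRingHomProperty.Spec_iff (P := @LocallyQuasiFinite.{u})]
    have hfl : φ.hom.Flat := by
      rw [← HasRingHomProperty.Spec_iff (P := @Flat.{u}), hφ]; infer_instance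
    algebraize [φ.hom]
    haveI : Module.Flat R _ := hfl
    let g : pullback (h ≫ f) j ⟶ pullback f j :=
      pullback.map _ _ _ _ h (𝟙 _) (𝟙 _) (Category.comp_id _) (by simp)
    haveI : IsPreimmersion g := inferInstance
    haveI : IsClosedImmersion g := IsClosedImmersion.of_isPreimmersion _ (isClosed_discrete _)
    have hfin : IsFinite (pullback.snd (h ≫ f) j) := by
      have e : pullback.snd (h ≫ f) j = g ≫ pullback.snd f j := by
        exact ((pullback.lift_snd _ _ _).trans (Category.comp_id _)).symm
      rw [e]; infer_instance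
    rw [← hφ] at hfin
    change IsFinite (pullback.snd (Spec.map (CommRingCat.ofHom (algebraMap R _))) j) at hfin
    haveI := hfin
    have hfin' : IsFinite ((pullbackSpecIso R T K).inv ≫
        pullback.snd (Spec.map (CommRingCat.ofHom (algebraMap R T))) j) := inferInstance
    rw [pullbackSpecIso_inv_snd, IsFinite.SpecMap_iff] at hfin'
    haveI : Module.Finite K (K ⊗[R] _) := RingHom.finite_algebraMap.mp (by
      have h2 := RingHom.Finite.comp (RingHom.Finite.of_surjective
        (Algebra.TensorProduct.comm R _ K).toAlgHom.toRingHom (Algebra.TensorProduct.comm R _ K).surjective) hfin'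
      convert h2 using 1
      ext k
      simp)
    show Algebra.QuasiFinite R _
    exact quasiFinite_of_flat_of_finite
  exact IsFinite.of_isProper_of_locallyQuasiFinite f

end Groth.Agent.QG99
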